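import Groth.Agent.H66.Smooth.Homog
import Groth.Agent.H66.Cot.Graded
import Groth.Agent.H66.CST.Smooth
import Groth.Agent.H20.SmoothRegular

/-! Dimension and smoothness of algebraic groups over an algebraically closed field. -/

set_option autoImplicit false
set_option linter.unusedSectionVars false
universe u

open IsLocalRing

namespace Groth.Agent.H66.Smooth

noncomputable section

variable {k : Type u} [Field k]
variable {A : Type u} [CommRing A] [HopfAlgebra k A] [Algebra.FiniteType k A]

local notation "ε" => Bialgebra.counitAlgHom k A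

/-- The cotangent space injects into that of a surjective image with small kernel. -/
theorem finrank_low_le {B : Type u} [CommRing B] [Algebra k B] [Algebra.FiniteType k B] (π : A →ₐ[k] B)
    (x : B →ₐ[k] k) (hπ : Function.Surjective π) (hx : x.comp π = ε)
    (hker : RingHom.ker π ≤ Cot.aug (k := k) (A := A) ^ 2) :
    Module.finrank k (A ⧸ Cot.low (k := k) (A := A)) ≤ Module.finrank k ↥(GLin.cotSpace k B x) := by
  haveI := CST.finite_cotSpace x
  let g : A →ₗ[k] B ⧸ RingHom.ker x ^ 2 := (Ideal.Quotient.mkₐ k (RingHom.ker x ^ 2)).toLinearMap ∘ₗ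
    π.toLinearMap ∘ₗ (LinearMap.id - (Algebra.linearMap k A) ∘ₗ (ε).toLinearMap)
  have hεx : ∀ a, x (π a) = ε a := fun a => AlgHom.congr_fun hx a
  have hmap : RingHom.ker x = (Cot.aug (k := k) (A := A)).map π.toRingHom := by
    refine le_antisymm (fun b hb => ?_) (Ideal.map_le_iff_le_comap.2 fun a ha => ?_)
    · obtain ⟨a, rfl⟩ := hπ b
      exact Ideal.mem_map_of_mem π.toRingHom (Cot.mem_aug.2 ((hεx a).symm.trans hb))
    · exact (hεx a).trans (Cot.mem_aug.1 ha)
  have hk : LinearMap.ker g = Cot.low (k := k) (A := A) := by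
    refine le_antisymm (fun a ha => ?_) ?_
    · have h1 : π (a - algebraMap k A (ε a)) ∈ RingHom.ker x ^ 2 := Ideal.Quotient.eq_zero_iff_mem.1 ha
      rw [hmap, ← Ideal.map_pow] at h1
      obtain ⟨b, hb, hab⟩ := (Ideal.mem_map_iff_of_surjective π.toRingHom hπ).1 h1
      have h2 : a - algebraMap k A (ε a) - b ∈ RingHom.ker π := by
        rw [RingHom.mem_ker, map_sub]
        exact sub_eq_zero.2 hab.symm
      have h3 := add_mem (hker h2) hb
      rw [sub_add_cancel] at h3
      have h4 := add_mem (Submodule.mem_sup_right h3 : a - algebraMap k A (ε a) ∈ Cot.low (k := k) (A := A))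
        (Cot.algebraMap_mem_low (k := k) (ε a))
      rwa [sub_add_cancel] at h4
    · refine sup_le (Submodule.span_le.2 ?_) fun a ha => ?_
      · rintro _ rfl
        simp [g]
      · have h0 : ε a = 0 := Cot.mem_aug.1 (Ideal.pow_le_self two_ne_zero ha)
        refine Ideal.Quotient.eq_zero_iff_mem.2 ?_
        change π (a - algebraMap k A (ε a)) ∈ _
        rw [h0, map_zero, sub_zero, hmap, ← Ideal.map_pow]
        exact Ideal.mem_map_of_mem π.toRingHom ha
  rw [← hk, g.quotKerEquivRange.finrank_eq]
  refine Submodule.finrank_mono ?_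
  rintro _ ⟨a, rfl⟩
  exact ⟨_, (hεx _).trans (by simp), rfl⟩

/-- The maximal ideal at the neutral point is generated by local parameters. -/
theorem spanFinrank_le [(RingHom.ker ε).IsPrime] :
    (maximalIdeal (Localization.AtPrime (RingHom.ker ε))).spanFinrank ≤
      Module.finrank k (A ⧸ Cot.low (k := k) (A := A)) := by
  classical
  haveI : IsNoetherianRing A := Algebra.FiniteType.isNoetherianRing k A
  haveI := Cot.finite_quot_low (k := k) (A := A)
  let m : Ideal A := RingHom.ker ε
  let L := Localization.AtPrime m
  haveI : IsNoetherianRing L := IsLocalization.isNoetherianRing m.primeCompl _ inferInstance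
  let bas := Module.finBasis k (A ⧸ Cot.low (k := k) (A := A))
  have hm : m ≤ Ideal.span (Set.range (Cot.par bas)) ⊔ m ^ 2 := by
    intro a ha
    obtain ⟨f, hf, haf⟩ := Cot.aug_pow_le bas 1 a (by rw [pow_one]; exact ha)
    rw [show a = Cot.ev bas f + (a - Cot.ev bas f) by ring]
    refine add_mem (Ideal.mem_sup_left ?_) (Ideal.mem_sup_right haf)
    rw [pow_one, Cot.linForms] at hf
    clear haf
    induction hf using Submodule.span_induction with
    | mem y hy => obtain ⟨i, rfl⟩ := hy; exact Ideal.subset_span ⟨i, by simp [Cot.ev]⟩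
    | zero => simp
    | add y z _ _ hy hz => rw [map_add]; exact add_mem hy hz
    | smul c y _ hy => rw [map_smul, Algebra.smul_def]; exact Ideal.mul_mem_left _ _ hy
  have hmax : maximalIdeal L ≤ (Ideal.span (Set.range (Cot.par bas))).map (algebraMap A L) := by
    have hmm : m.map (algebraMap A L) = maximalIdeal L := IsLocalization.AtPrime.map_eq_maximalIdeal m L
    refine Submodule.le_of_le_smul_of_le_jacobson_bot (IsNoetherian.noetherian _)
      (IsLocalRing.maximalIdeal_le_jacobson _) ?_
    rw [smul_eq_mul, ← pow_two, ← hmm, ← Ideal.map_pow, ← Ideal.map_sup]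
    exact Ideal.map_mono hm
  have hge : (Ideal.span (Set.range (Cot.par bas))).map (algebraMap A L) ≤ maximalIdeal L := by
    refine Ideal.map_le_iff_le_comap.2 (Ideal.span_le.2 ?_)
    rintro _ ⟨i, rfl⟩
    exact (IsLocalization.AtPrime.to_map_mem_maximal_iff L m _).2 (Cot.par_mem bas i)
  rw [le_antisymm hmax hge]
  change Submodule.spanFinrank ((Ideal.span (Set.range (Cot.par bas))).map (algebraMap A L)) ≤ _
  rw [Ideal.map_span, ← Set.range_comp]
  refine (Submodule.spanFinrank_span_le_ncard_of_finite (Set.finite_range _)).trans ?_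
  rw [← Nat.card_coe_set_eq]
  exact (Finite.card_range_le _).trans (by simp)

theorem ringKrullDim_quotient_nilradical : ringKrullDim (A ⧸ nilradical A) = ringKrullDim A := by
  refine le_antisymm (ringKrullDim_le_of_surjective _ Ideal.Quotient.mk_surjective) ?_
  refine Order.krullDim_le_of_strictMono
    (fun P => ⟨P.asIdeal.map (Ideal.Quotient.mk (nilradical A)), ?_⟩) fun P Q h => ?_
  · haveI := P.isPrime
    exact Ideal.map_isPrime_of_surjective Ideal.Quotient.mk_surjective
      (by rw [Ideal.mk_ker]; exact nilradical_le_prime _)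
  · have hc : ∀ P : PrimeSpectrum A, (P.asIdeal.map (Ideal.Quotient.mk (nilradical A))).comap
        (Ideal.Quotient.mk (nilradical A)) = P.asIdeal := fun P => by
      haveI := P.isPrime
      rw [Ideal.comap_map_of_surjective _ Ideal.Quotient.mk_surjective, ← RingHom.ker_eq_comap_bot, Ideal.mk_ker,
        sup_eq_left.2 (nilradical_le_prime _)]
    refine lt_of_le_of_ne (Ideal.map_mono h.le) fun he => h.ne ?_
    have := congrArg (Ideal.comap (Ideal.Quotient.mk (nilradical A))) (congrArg PrimeSpectrum.asIdeal he)
    change (P.asIdeal.map _).comap _ = (Q.asIdeal.map _).comap _ at this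
    rw [hc, hc] at this
    exact PrimeSpectrum.ext this

variable [IsAlgClosed k]

theorem isReduced_of_spanFinrank_le [(RingHom.ker ε).IsPrime]
    (h : ((maximalIdeal (Localization.AtPrime (RingHom.ker ε))).spanFinrank : WithBot ℕ∞) ≤ ringKrullDim A) :
    IsReduced A := by
  haveI : IsNoetherianRing A := Algebra.FiniteType.isNoetherianRing k A
  haveI : IsNoetherianRing (Localization.AtPrime (RingHom.ker ε)) :=
    IsLocalization.isNoetherianRing (RingHom.ker ε).primeCompl _ inferInstance
  rw [ringKrullDim_eq_height (homogeneous_counit (k := k) (A := A)), ← IsLocalization.AtPrime.ringKrullDim_eq_height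
    (RingHom.ker ε) (Localization.AtPrime (RingHom.ker ε))] at h
  haveI := IsRegularLocalRing.of_spanFinrank_maximalIdeal_le _ h
  haveI := Groth.Agent.Lib.Regular.Quotient.isDomain (Localization.AtPrime (RingHom.ker ε))
  exact isReduced (homogeneous_counit (k := k) (A := A))

theorem isReduced_of_nilradical_le (h : nilradical A ≤ Cot.aug (k := k) (A := A) ^ 2) : IsReduced A := by
  haveI : (RingHom.ker ε).IsPrime := RingHom.ker_isPrime _
  haveI : IsReduced (A ⧸ nilradical A) := (Ideal.isRadical_iff_quotient_reduced _).1 (Ideal.radical_isRadical _)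
  haveI : Algebra.FiniteType k (A ⧸ nilradical A) :=
    Algebra.FiniteType.of_surjective (Ideal.Quotient.mkₐ k _) Ideal.Quotient.mk_surjective
  let e := counitRed (k := k) (A := A)
  haveI : (RingHom.ker e).IsPrime := RingHom.ker_isPrime _
  haveI := formallySmooth (homogeneous_counitRed (k := k) (A := A))
  haveI : Algebra.IsSmoothAt k (RingHom.ker e) := inferInstance
  haveI := H20.SmoothRegular.isRegularLocalRing k (RingHom.ker e)
  refine isReduced_of_spanFinrank_le (k := k) ?_
  have hle : Module.finrank k (A ⧸ Cot.low (k := k) (A := A)) ≤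
      (maximalIdeal (Localization.AtPrime (RingHom.ker e))).spanFinrank :=
    (finrank_low_le (Ideal.Quotient.mkₐ k (nilradical A)) e Ideal.Quotient.mk_surjective rfl
      (fun a ha => h (Ideal.Quotient.eq_zero_iff_mem.1 ha))).trans (CST.finrank_cotSpace_le e)
  calc ((maximalIdeal (Localization.AtPrime (RingHom.ker ε))).spanFinrank : WithBot ℕ∞)
      ≤ ((maximalIdeal (Localization.AtPrime (RingHom.ker e))).spanFinrank : WithBot ℕ∞) := by
        exact_mod_cast spanFinrank_le.trans hle
    _ = ringKrullDim (Localization.AtPrime (RingHom.ker e)) := IsRegularLocalRing.spanFinrank_maximalIdeal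
    _ = ((RingHom.ker e).height : WithBot ℕ∞) := IsLocalization.AtPrime.ringKrullDim_eq_height _ _
    _ = ringKrullDim (A ⧸ nilradical A) := (ringKrullDim_eq_height (homogeneous_counitRed (k := k) (A := A))).symm
    _ = ringKrullDim A := ringKrullDim_quotient_nilradical

/-- The dimension is at most that of the tangent space, with equality exactly for smooth groups. -/
theorem ringKrullDim_le_and_iff :
    ringKrullDim A ≤ (Module.finrank k (A ⧸ Cot.low (k := k) (A := A)) : WithBot ℕ∞) ∧
      (ringKrullDim A = (Module.finrank k (A ⧸ Cot.low (k := k) (A := A)) : WithBot ℕ∞) ↔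
        Algebra.FormallySmooth k A) := by
  haveI : IsNoetherianRing A := Algebra.FiniteType.isNoetherianRing k A
  haveI : (RingHom.ker ε).IsPrime := RingHom.ker_isPrime _
  haveI : IsNoetherianRing (Localization.AtPrime (RingHom.ker ε)) :=
    IsLocalization.isNoetherianRing (RingHom.ker ε).primeCompl _ inferInstance
  have hd : ringKrullDim A = ringKrullDim (Localization.AtPrime (RingHom.ker ε)) := by
    rw [ringKrullDim_eq_height (homogeneous_counit (k := k) (A := A)), IsLocalization.AtPrime.ringKrullDim_eq_height (RingHom.ker ε)]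
  have h1 : ringKrullDim A ≤ (Module.finrank k (A ⧸ Cot.low (k := k) (A := A)) : WithBot ℕ∞) :=
    hd ▸ (ringKrullDim_le_spanFinrank_maximalIdeal _).trans (by exact_mod_cast spanFinrank_le)
  refine ⟨h1, fun he => ?_, fun hs => le_antisymm h1 ?_⟩
  · haveI := isReduced_of_spanFinrank_le (k := k) (A := A) (he ▸ by exact_mod_cast spanFinrank_le)
    exact formallySmooth (homogeneous_counit (k := k) (A := A))
  · haveI : Algebra.IsSmoothAt k (RingHom.ker ε) := inferInstance
    haveI := H20.SmoothRegular.isRegularLocalRing k (RingHom.ker ε)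
    rw [hd, ← IsRegularLocalRing.spanFinrank_maximalIdeal]
    exact_mod_cast (finrank_low_le (AlgHom.id k A) ε Function.surjective_id rfl (fun a ha => (show a = 0 from ha) ▸ zero_mem _)).trans
      (CST.finrank_cotSpace_le ε)

end

end Groth.Agent.H66.Smooth
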