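import Groth.Agent.Lib.Comod.Cartier
import Groth.Agent.Lib.Comod.Orbits2
import Groth.Agent.Lib.Regular.Quotient
import Mathlib.RingTheory.Smooth.Locus
import Mathlib.RingTheory.Smooth.Field
import Mathlib.RingTheory.Ideal.Height
import Mathlib.RingTheory.KrullDimension.Zero
import Mathlib.FieldTheory.Perfect
import Mathlib.RingTheory.LocalProperties.Reduced

/-! Homogeneous affine schemes over an algebraically closed field: smoothness, reducedness, dimension. -/

set_option autoImplicit false
set_option linter.unusedSectionVars false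
universe u

open Groth.Agent.Lib.Comod.Basic Groth.Agent.Lib.Comod.Orbits

namespace Groth.Agent.H66.Smooth

noncomputable section

variable {k : Type u} [Field k]

section Homog

variable {B : Type u} [CommRing B] [Algebra k B]

/-- Every rational point is carried to `e` by an automorphism. -/
def Homogeneous (e : B →ₐ[k] k) : Prop := ∀ z : B →ₐ[k] k, ∃ σ : B ≃ₐ[k] B, e.comp σ.toAlgHom = z

variable [IsAlgClosed k] [Algebra.FiniteType k B] {e : B →ₐ[k] k}

theorem exists_ker_eq {m : Ideal B} (hm : m.IsMaximal) : ∃ w : B →ₐ[k] k, RingHom.ker w = m := by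
  obtain ⟨w, hw⟩ := exists_pt (k := k) hm.ne_top
  exact ⟨w, (hm.eq_of_le (RingHom.ker_ne_top w.toRingHom) hw).symm⟩

theorem exists_pt_ne_zero [IsReduced B] {f : B} (hf : f ≠ 0) : ∃ z : B →ₐ[k] k, z f ≠ 0 := by
  by_contra! h
  exact hf (Groth.Agent.Lib.Comod.Orbits2.isNilpotent_of_forall_pt (k := k) h).eq_zero

/-- A reduced homogeneous scheme of finite type is smooth. -/
theorem formallySmooth [IsReduced B] (he : Homogeneous e) : Algebra.FormallySmooth k B := by
  classical
  haveI : Nontrivial B := e.toRingHom.domain_nontrivial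
  haveI : IsNoetherianRing B := Algebra.FiniteType.isNoetherianRing k B
  haveI : Algebra.FinitePresentation k B := Algebra.FinitePresentation.of_finiteType.1 inferInstance
  rw [← Algebra.smoothLocus_eq_univ_iff]
  obtain ⟨p, hp⟩ := Ideal.nonempty_minimalPrimes (I := (⊥ : Ideal B)) bot_ne_top
  haveI : p.IsPrime := hp.1.1
  have hgen : Algebra.IsSmoothAt k p := by
    haveI : Ring.KrullDimLE 0 (Localization.AtPrime p) := .of_isLocalization _ hp _
    haveI : IsReduced (Localization.AtPrime p) := isReduced_localizationPreserves p.primeCompl _ inferInstance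
    letI : Field (Localization.AtPrime p) := Ring.KrullDimLE.isField_of_isReduced.toField
    haveI : Algebra.EssFiniteType k (Localization.AtPrime p) := .comp k B _
    exact Algebra.FormallySmooth.of_perfectField
  obtain ⟨_, ⟨_, ⟨f, rfl⟩, rfl⟩, hf0, hfsm⟩ := PrimeSpectrum.isBasis_basic_opens.exists_subset_of_mem_open
    (show (⟨p, inferInstance⟩ : PrimeSpectrum B) ∈ Algebra.smoothLocus k B from hgen) Algebra.isOpen_smoothLocus
  have hf : f ≠ 0 := fun h => hf0 (h ▸ zero_mem _)
  have hsm : Algebra.FormallySmooth k (Localization.Away f) := Algebra.basicOpen_subset_smoothLocus_iff.1 hfsm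
  obtain ⟨z, hz⟩ := exists_pt_ne_zero (k := k) hf
  refine Set.eq_univ_of_forall fun P => ?_
  obtain ⟨m, hm, hPm⟩ := Ideal.exists_le_maximal P.asIdeal P.isPrime.ne_top
  obtain ⟨w, hw⟩ := exists_ker_eq (k := k) hm
  obtain ⟨σ1, h1⟩ := he z
  obtain ⟨σ2, h2⟩ := he w
  let σ : B ≃ₐ[k] B := σ1.trans σ2.symm
  have hσ : ∀ b, w (σ b) = z b := fun b => by
    rw [← h1, ← h2]
    simp [σ]
  let ψ : Localization.Away f ≃ₐ[k] Localization.Away (σ f) :=
    IsLocalization.algEquivOfAlgEquiv (M := Submonoid.powers f) (Localization.Away f)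
      (Localization.Away (σ f)) σ (Submonoid.map_powers _ _)
  have hsub := Algebra.basicOpen_subset_smoothLocus_iff.2 (Algebra.FormallySmooth.of_equiv ψ :
    Algebra.FormallySmooth k (Localization.Away (σ f)))
  refine hsub (show σ f ∉ P.asIdeal from fun h => hz ?_)
  rw [← hσ]
  exact (RingHom.mem_ker (f := w)).1 (hw ▸ hPm h)

/-- Reducedness spreads from one point. -/
theorem isReduced (he : Homogeneous e) [(RingHom.ker e).IsPrime]
    [IsReduced (Localization.AtPrime (RingHom.ker e))] : IsReduced B := by
  refine ⟨fun a ha => ?_⟩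
  by_contra hne
  have hann : Submodule.annihilator (Submodule.span B {a}) ≠ ⊤ := by
    intro h
    rw [Ideal.eq_top_iff_one, Submodule.mem_annihilator_span_singleton, one_smul] at h
    exact hne h
  obtain ⟨m, hm, hle⟩ := Ideal.exists_le_maximal _ hann
  obtain ⟨w, hw⟩ := exists_ker_eq (k := k) hm
  obtain ⟨σ, hσ⟩ := he w
  have h0 : algebraMap B (Localization.AtPrime (RingHom.ker e)) (σ a) = 0 :=
    ((ha.map σ).map (algebraMap B (Localization.AtPrime (RingHom.ker e)))).eq_zero
  obtain ⟨⟨s, hs⟩, hsa⟩ := (IsLocalization.map_eq_zero_iff (RingHom.ker e).primeCompl _ _).1 h0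
  change s * σ a = 0 at hsa
  have h1 : σ.symm s ∈ Submodule.annihilator (Submodule.span B {a}) := by
    rw [Submodule.mem_annihilator_span_singleton, smul_eq_mul]
    apply σ.injective
    rw [map_mul, AlgEquiv.apply_symm_apply, hsa, map_zero]
  have h2 : w (σ.symm s) = 0 := by
    have := hle h1
    rwa [← hw, RingHom.mem_ker] at this
  rw [← hσ] at h2
  simp at h2
  exact hs h2

/-- All closed points have the same height. -/
theorem ringKrullDim_eq_height (he : Homogeneous e) [(RingHom.ker e).IsPrime] :
    ringKrullDim B = (RingHom.ker e).height := by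
  haveI : Nontrivial B := e.toRingHom.domain_nontrivial
  rw [← Ideal.sup_isMaximal_height_eq_ringKrullDim, WithBot.coe_inj]
  have hmax : (RingHom.ker e).IsMaximal :=
    RingHom.ker_isMaximal_of_surjective _ fun c => ⟨algebraMap k B c, e.commutes c⟩
  refine le_antisymm (iSup₂_le fun m hm => ?_) (le_iSup₂_of_le (RingHom.ker e) hmax le_rfl)
  obtain ⟨w, hw⟩ := exists_ker_eq (k := k) hm
  obtain ⟨σ, hσ⟩ := he w
  refine le_of_eq ?_
  rw [← RingEquiv.height_comap σ.toRingEquiv (RingHom.ker e)]
  congr 1
  rw [← hw, ← hσ]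
  ext b
  simp [RingHom.mem_ker]

end Homog

section Hopf

variable {A : Type u} [CommRing A] [HopfAlgebra k A]

open Groth.Agent.Lib.Comod.Cartier

theorem trans_trans_invPt (g : A →ₐ[k] k) (a : A) : trans g (trans (invPt g) a) = a := by
  rw [trans_apply, trans_apply, dact_dact, ← mulPt_toLinearMap, mulPt_invPt]
  exact dact_counit_apply A a

/-- Translation by a rational point. -/
def shift (g : A →ₐ[k] k) : A ≃ₐ[k] A :=
  AlgEquiv.ofAlgHom (trans g) (trans (invPt g)) (AlgHom.ext (trans_trans_invPt g)) (AlgHom.ext (trans_invPt g))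

theorem homogeneous_counit : Homogeneous (Bialgebra.counitAlgHom k A) := fun g =>
  ⟨shift g, AlgHom.ext fun a => counit_trans g a⟩

/-- The counit on the reduced quotient. -/
def counitRed : (A ⧸ nilradical A) →ₐ[k] k :=
  Ideal.Quotient.liftₐ _ (Bialgebra.counitAlgHom k A) fun a ha =>
    ((mem_nilradical.1 ha).map (Bialgebra.counitAlgHom k A)).eq_zero

theorem homogeneous_counitRed : Homogeneous (counitRed (k := k) (A := A)) := by
  intro z
  let σ := shift (z.comp (Ideal.Quotient.mkₐ k (nilradical A)))
  have hmap : nilradical A = (nilradical A).map (σ : A →+* A) := by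
    refine le_antisymm (fun a ha => ?_) (Ideal.map_le_iff_le_comap.2 fun a ha => ?_)
    · have h := Ideal.mem_map_of_mem (σ : A →+* A)
        (mem_nilradical.2 ((mem_nilradical.1 ha).map σ.symm) : σ.symm a ∈ nilradical A)
      rwa [show (σ : A →+* A) (σ.symm a) = a from σ.apply_symm_apply a] at h
    · exact mem_nilradical.2 ((mem_nilradical.1 ha).map σ)
  refine ⟨Ideal.quotientEquivAlg _ _ σ hmap, Ideal.Quotient.algHom_ext k (AlgHom.ext fun a => ?_)⟩
  exact counit_trans (z.comp (Ideal.Quotient.mkₐ k (nilradical A))) a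

end Hopf

end

end Groth.Agent.H66.Smooth
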